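import Cfsg.Agent.H646.CY.URowCases
import Cfsg.Agent.H104.CY.RelX
import Cfsg.Agent.H188.CY.PolNoRel
import Cfsg.Agent.H556.CY.RelCount
import Cfsg.Agent.H598.CY.Orb

/-!
# S4829: the row `PSU_n(q)`, linear type, the count weighted by "perpendicular and disjoint" (helper646, after helper104)

`rowA_psu_rel` : `-q` of order `2 d`, `n = n0 + a * (2 d)`, `p` does not divide the number of totally isotropic
`2 d`-spaces.
`rowA_psu_lin` : the row for `-q` of order `2 d`, `n = n0 + a * (2 d)`, `n0 / 2 + 1 = d`, `a ≥ 2`, also for `d = 1`.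
-/

set_option autoImplicit false

open Module

namespace Cfsg.Agent.H646.CY

open Cfsg Matrix
open Cfsg.Agent.H2.Pol Cfsg.Agent.H646.BR Cfsg.Agent.H646.BR.U Cfsg.Agent.H145.BR Cfsg.Agent.H674.BR Cfsg.Agent.H623.BR
open Cfsg.Agent.H770.CY
open Cfsg.Agent.LieClassical.HermBasic Cfsg.Agent.LieClassical.HermSiegel Cfsg.Agent.LieClassical.SUBasic
open Cfsg.Agent.ClassicalGeometry.PSUAutBasic Cfsg.Agent.ClassicalGeometry.PSUAutCount

section act

variable {F : Type*} [Field F] [Fintype F] {n q : ℕ}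

theorem psu_real_perm (hF : Fintype.card F = q ^ 2) (hn : 3 ≤ n) (k : ℕ) {a : MulAut (PSU n F q)}
    {M : (Fin n → F) ≃+ (Fin n → F)} (hM : SemiAct (hpol hF n) M) (ha : Induces (suL n F q) (pr n F q) M a) :
    letI := psuAct hF hn k; Real a (hM.perm k) := by
  let _ := psuAct hF hn k
  intro x U
  obtain ⟨g, rfl⟩ : ∃ g, pr n F q g = x := QuotientGroup.mk_surjective x
  obtain ⟨g', hg', hm⟩ := ha g
  have key : ∀ U : Submodule F (Fin n → F), mv (suL n F q) g' (hM.sub U) = hM.sub (mv (suL n F q) g U) := by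
    intro U
    ext v
    constructor
    · rintro ⟨_, ⟨x, hx, rfl⟩, rfl⟩
      exact ⟨suL n F q g x, ⟨x, hx, rfl⟩, (hm x).symm⟩
    · rintro ⟨_, ⟨x, hx, rfl⟩, rfl⟩
      exact ⟨M x, ⟨x, hx, rfl⟩, hm x⟩
  have h1 : pr n F q g • U = g • U := psu_smul hF hn g U
  have h3 : pr n F q g' • hM.perm k U = g' • hM.perm k U := psu_smul hF hn g' _
  rw [← hg', h1, h3]
  exact Subtype.ext (key U.1)

/-- the action of an automorphism through any semi-isometry inducing it -/
theorem psuAutAct_sub (hF : Fintype.card F = q ^ 2) (hn : 3 ≤ n) (h32 : ¬ (n = 3 ∧ q = 2)) (k : ℕ)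
    {a : MulAut (PSU n F q)} {M : (Fin n → F) ≃+ (Fin n → F)} (hM : SemiAct (hpol hF n) M)
    (ha : Induces (suL n F q) (pr n F q) M a) (U : uX hF n k) :
    (letI := psuAutAct hF hn h32 k; a • U).1 = hM.sub U.1 := by
  let _ := psuAct hF hn k
  have h := autAct_smul (psu_sep hF hn k) (fun a => (psu_real hF hn h32 k a).imp fun _ h => h.1)
    (psu_real_perm hF hn k hM ha) U
  exact congrArg Subtype.val h

end act

section rel

variable {F : Type*} [Field F] [Fintype F] {n q : ℕ} {p : ℕ} [hp : Fact p.Prime]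

/-- **no perpendicular disjoint pair** `(U, a U)`, `a` centralizing a Sylow subgroup fixing `U` -/
theorem psu_no_rel (hF : Fintype.card F = q ^ 2) (hn : 3 ≤ n) (hq : ¬ p ∣ q) (hq1 : ¬ p ∣ q + 1) {d : ℕ}
    (hd : p ∣ Fintype.card F ^ d - 1) (hd1 : 1 ≤ d) (Q : Sylow p (PSU n F q)) {a : MulAut (PSU n F q)}
    (haQ : ∀ x ∈ Q, a x = x) {M : (Fin n → F) ≃+ (Fin n → F)} (hM : SemiAct (hpol hF n) M)
    (hMa : Induces (suL n F q) (pr n F q) M a) (U : uX hF n d)
    (hU : letI := psuAct hF hn d; ∀ g ∈ Q, g • U = U) (hdis : U.1 ⊓ hM.sub U.1 = ⊥)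
    (horth : (hpol hF n).Orth U.1 (hM.sub U.1)) : False := by
  have hpF : ¬ p ∣ Fintype.card F := by
    rw [hF]
    exact fun h => hq (hp.out.dvd_of_dvd_pow h)
  obtain ⟨P1, hP1⟩ := Sylow.mapSurjective_surjective (f := pr n F q) pr_surjective p Q
  obtain ⟨P2, hP2⟩ := exists_sylow_map (suGU (F := F) hF n) (suGU_injective hF)
    (by rw [index_range_suGU hF (by omega)]; exact hq1) P1
  have hQe : (Q : Subgroup (PSU n F q)) = (P1 : Subgroup (SU n F q)).map (pr n F q) := by rw [← hP1]; rfl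
  have hpF' : p.Coprime (Fintype.card F) := (Nat.Prime.coprime_iff_not_dvd hp.out).2 hpF
  obtain ⟨f, hf, hfc⟩ := exists_irr F p
  have hfd : f.natDegree ∣ finrank F U.1 := by
    rw [U.2.2, natDegree_irr hf hfc hpF', orderOf_dvd_iff_pow_eq_one, Units.ext_iff, Units.val_pow_eq_pow_val,
      ZMod.coe_unitOfCoprime, Units.val_one]
    have hpos : 1 ≤ Fintype.card F ^ d := Nat.one_le_pow _ _ Fintype.card_pos
    rw [← Nat.cast_pow, ← Nat.cast_one, eq_comm, ZMod.natCast_eq_natCast_iff]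
    exact (Nat.modEq_iff_dvd' hpos).2 hd
  refine H188.CY.no_rel (Φ := hpol hF n) (ρ := guL n F q) (wittTS_gu hF) hpF' hf hfc P2 (M := M) ?_ (U := U.1)
    (U2 := hM.sub U.1) (fun x => Iff.rfl) ?_ hfd ?_ hdis (H188.CY.ti_sup U.2.1 (hM.ti U.2.1) horth)
  · intro g hg v
    have hg' : g ∈ (P1 : Subgroup (SU n F q)).map (suGU hF n) := by rw [← hP2]; exact hg
    obtain ⟨g, hg1, rfl⟩ := hg'
    obtain ⟨k, hk⟩ := P1.2 ⟨g, hg1⟩
    have hπg : pr n F q g ∈ Q := by
      change pr n F q g ∈ (Q : Subgroup (PSU n F q))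
      rw [hQe]
      exact ⟨g, hg1, rfl⟩
    rw [guL_suGU]
    exact H188.CY.comm_of_induces (fun z hz => pr_eq_one_iff.1 hz) (not_dvd_card_center hF hn hq1) hMa
      (congrArg Subtype.val hk) (haQ _ hπg) v
  · intro g hg
    have hg' : g ∈ (P1 : Subgroup (SU n F q)).map (suGU hF n) := by rw [← hP2]; exact hg
    obtain ⟨g, hg1, rfl⟩ := hg'
    have hπg : pr n F q g ∈ Q := by
      change pr n F q g ∈ (Q : Subgroup (PSU n F q))
      rw [hQe]
      exact ⟨g, hg1, rfl⟩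
    rw [mv_suGU]
    let _ := psuAct hF hn d
    have h1 := congrArg Subtype.val (hU _ hπg)
    exact (congrArg Subtype.val (psu_smul hF hn g U)).symm.trans h1
  · intro h1
    have h2 := U.2.2
    rw [h1, finrank_bot] at h2
    omega

/-- the relation -/
def URel (hF : Fintype.card F = q ^ 2) (n d : ℕ) (U W : uX hF n d) : Prop :=
  U.1 ⊓ W.1 = ⊥ ∧ (hpol hF n).Orth U.1 W.1

theorem urel_smul (hF : Fintype.card F = q ^ 2) (hn : 3 ≤ n) (h32 : ¬ (n = 3 ∧ q = 2)) {d : ℕ}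
    (a : MulAut (PSU n F q)) (x y : uX hF n d) :
    (letI := psuAutAct hF hn h32 d; URel hF n d (a • x) (a • y)) ↔ URel hF n d x y := by
  obtain ⟨M, hM, ha⟩ := H987.BR.psu_aut hF hn h32 a
  have h1 : ∀ U : uX hF n d, (letI := psuAutAct hF hn h32 d; a • U).1 = subIso hM U.1 := fun U =>
    psuAutAct_sub hF hn h32 d hM ha U
  show ((letI := psuAutAct hF hn h32 d; a • x).1 ⊓ (letI := psuAutAct hF hn h32 d; a • y).1 = ⊥ ∧
    (hpol hF n).Orth (letI := psuAutAct hF hn h32 d; a • x).1 (letI := psuAutAct hF hn h32 d; a • y).1) ↔ _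
  rw [h1, h1, ← (subIso hM).map_inf, _root_.map_eq_bot_iff]
  refine and_congr Iff.rfl ?_
  constructor
  · intro h u hu w hw
    exact (hM.orth u w).1 (h (M u) ⟨u, hu, rfl⟩ (M w) ⟨w, hw, rfl⟩)
  · rintro h _ ⟨u, hu, rfl⟩ _ ⟨w, hw, rfl⟩
    exact (hM.orth u w).2 (h u hu w hw)

end rel

universe u

variable {F : Type u} [Field F] [Fintype F] {n q : ℕ} {p : ℕ} [hp : Fact p.Prime]

/-- **the row, `p` does not divide the number of totally isotropic `2 d`-spaces** -/
theorem rowA_psu_rel (hF : Fintype.card F = q ^ 2) (hn : 3 ≤ n) (h32 : ¬ (n = 3 ∧ q = 2)) (hp2 : p ≠ 2) (hq : ¬ p ∣ q)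
    [Fintype (PSU n F q)] [IsSimpleGroup (PSU n F q)] (hnc : ¬ IsMulCommutative (PSU n F q)) {d : ℕ}
    (he : orderOf (-(q : ZMod p)) = 2 * d) (hd1 : 1 ≤ d) (hdn : 2 * d ≤ n)
    (h2 : ¬ p ∣ Nat.card (uX hF n (2 * d))) : RowA p (PSU n F q) := by
  have hpq : ¬ p ∣ Nat.card F := by
    rw [Nat.card_eq_fintype_card, hF]
    exact fun h => hq (hp.out.dvd_of_dvd_pow h)
  have hq1 : ¬ p ∣ q + 1 := by
    intro h
    have h1 : ((q + 1 : ℕ) : ZMod p) = 0 := (ZMod.natCast_eq_zero_iff _ _).2 h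
    push_cast at h1
    have h3 : -(q : ZMod p) = 1 := by linear_combination -h1
    rw [h3, orderOf_one] at he
    omega
  have hd : orderOf ((Nat.card F : ℕ) : ZMod p) = d := by
    have h1 : ((Nat.card F : ℕ) : ZMod p) = (-(q : ZMod p)) ^ 2 := by
      rw [Nat.card_eq_fintype_card, hF]
      push_cast
      ring
    rw [h1, orderOf_pow_of_dvd two_ne_zero (by rw [he]; exact dvd_mul_right 2 d), he, Nat.mul_div_cancel_left _ two_pos]
  have hd' : p ∣ Fintype.card F ^ d - 1 := by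
    have hpos : 1 ≤ Fintype.card F ^ d := Nat.one_le_pow _ _ Fintype.card_pos
    rw [← ZMod.natCast_eq_zero_iff, Nat.cast_sub hpos, Nat.cast_pow, Nat.cast_one, ← Nat.card_eq_fintype_card]
    have h9 := pow_orderOf_eq_one ((Nat.card F : ℕ) : ZMod p)
    rw [hd] at h9
    rw [h9, sub_self]
  let _ := psuAutAct hF hn h32 d
  have htr : ∀ x y : uX hF n d, ∃ s : PSU n F q, (MulAut.conj s : MulAut (PSU n F q)) • x = y := by
    intro x y
    obtain ⟨s, hs⟩ := (psu_trans hF hn d).exists_smul_eq x y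
    exact ⟨s, (psuAutAct_conj hF hn h32 d s x).trans hs⟩
  have hne : Nonempty (uX hF n d) := H666.BR.nonempty_uX (n := n) hF hdn
  obtain ⟨U0⟩ := hne
  have hcount : ∀ U : uX hF n d, Nat.card {W : uX hF n d // URel hF n d U W} =
      Nat.card {W : uX hF n d // URel hF n d U0 W} := by
    intro U
    obtain ⟨s, rfl⟩ := htr U0 U
    symm
    refine Nat.card_congr (Equiv.subtypeEquiv (MulAction.toPerm (MulAut.conj s : MulAut (PSU n F q))) fun W => ?_)
    exact (urel_smul hF hn h32 (MulAut.conj s) U0 W).symm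
  have hpn := H556.CY.not_dvd_rel (Φ := hpol hF n) hp2 hpq hd hd1 h2 hcount
  have : Nonempty (uX hF n d) := ⟨U0⟩
  obtain ⟨Q⟩ : Nonempty (Sylow p (PSU n F q)) := inferInstance
  intro A hA M hM
  obtain ⟨X, hXA, hSX, hnX, hpX, k, hk⟩ := hA.2
  have := Fintype.ofFinite X
  obtain ⟨ψ, hB, hψ1, hψp, hψ0⟩ := H104.CY.exists_of_relX hM hnc X hSX hpX htr (URel hF n d)
    (fun a x y => urel_smul hF hn h32 a x y) hcount hpn ⟨Q, fun a ha x hx hR => by
      obtain ⟨N, hN, hi⟩ := H987.BR.psu_aut hF hn h32 a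
      have h4 : (a • x : uX hF n d).1 = hN.sub x.1 := psuAutAct_sub hF hn h32 d hN hi x
      refine psu_no_rel hF hn hq hq1 hd' hd1 Q ha hN hi x (fun g hg => ?_) ?_ ?_
      · exact (psuAutAct_conj hF hn h32 d g x).symm.trans (hx g hg)
      · rw [← h4]
        exact hR.1
      · rw [← h4]
        exact hR.2⟩
  refine H598.CY.wit_of_const (Ω := uX hF n d) hnc hM hA.1 X hXA hSX hnX hpX hk (fun _ _ => rfl) ?_ ?_ ψ hB hψ1 hψp hψ0
  · intro a x y
    obtain ⟨s, h5, h6⟩ := psuAutAct_pair hF hn h32 d a x y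
    exact ⟨s, (psuAutAct_conj hF hn h32 d s x).trans h5, (psuAutAct_conj hF hn h32 d s y).trans h6⟩
  · intro θ hθ
    refine H116.CY.cyc_of_int (Cfsg.Agent.Characters.Core.isIrr_isCharacter θ.2) (psu_int hF hn d θ ?_) p
    have h7 : (fun s : PSU n F q => permC A (uX hF n d) (H598.CY.inn hA.1 s)) =
        (letI := psuAct hF hn d; permC (PSU n F q) (uX hF n d)) := by
      funext s
      let _ := psuAct hF hn d
      show (Nat.card _ : ℂ) = (Nat.card _ : ℂ)
      congr 1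
      refine Nat.card_congr (Equiv.subtypeEquivRight fun x => ?_)
      have h8 : (H598.CY.inn hA.1 s • x : uX hF n d) = s • x := psuAutAct_conj hF hn h32 d s x
      show H598.CY.inn hA.1 s • x = x ↔ s • x = x
      rw [h8]
    rw [h7] at hθ
    exact hθ

/-- **linear type** -/
theorem rowA_psu_lin (hF : Fintype.card F = q ^ 2) (hn : 3 ≤ n) (h32 : ¬ (n = 3 ∧ q = 2)) (hp2 : p ≠ 2) (hq : ¬ p ∣ q)
    [Fintype (PSU n F q)] [IsSimpleGroup (PSU n F q)] (hnc : ¬ IsMulCommutative (PSU n F q)) {d a : ℕ}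
    (he : orderOf (-(q : ZMod p)) = 2 * d) (hd1 : 1 ≤ d) (ha : 2 ≤ a) (hdn : a * (2 * d) ≤ n) : RowA p (PSU n F q) := by
  have had : 2 * (2 * d) ≤ a * (2 * d) := Nat.mul_le_mul_right _ ha
  by_cases h2 : p ∣ Nat.card (uX hF n (2 * d))
  · exact psu_dvd hF hn h32 (k := 2 * d) (by omega) h2
  · exact rowA_psu_rel hF hn h32 hp2 hq hnc he hd1 (by omega) h2

/-- **the field `psu` of `RowsAN`** -/
theorem rowForAN_psu (p : ℕ) [hp : Fact p.Prime] (hp2 : p ≠ 2) :
    H776.CY.RowForAN p (fun X _ => ∃ (F : Type) (_ : Field F) (_ : Fintype F) (n q : ℕ), (p : F) ≠ 0 ∧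
      Fintype.card F = q ^ 2 ∧ 3 ≤ n ∧ Nonempty (X ≃* PSU n F q)) := by
  intro X _ _ _ hna hd hnc hX
  have hX' := hX
  obtain ⟨F, _, _, n, q, hpF, hF, hn, ⟨e⟩⟩ := hX'
  have hfin : Fintype (PSU n F q) := Fintype.ofFinite _
  have hsimp : IsSimpleGroup (PSU n F q) := e.symm.isSimpleGroup
  have hna' : ¬ IsMulCommutative (PSU n F q) := by
    rintro ⟨⟨h⟩⟩
    exact hna ⟨⟨fun a b => e.injective (by rw [map_mul, map_mul, h])⟩⟩
  have h32 : ¬ (n = 3 ∧ q = 2) := by
    rintro ⟨rfl, rfl⟩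
    have h1 : Group.IsSolvable (PSU 3 F 2) := (Cfsg.Agent.S0282.result (by rw [hF]; rfl)).2
    have h2 : Group.IsSolvable X := Group.isSolvable_of_isSolvable_injective (f := e.toMonoidHom) e.injective
    exact hna ⟨⟨(IsSimpleGroup.comm_iff_isSolvable).2 h2⟩⟩
  have hq : ¬ p ∣ q := by
    intro h1
    apply hpF
    obtain ⟨r, hr⟩ := CharP.exists F
    obtain ⟨⟨l, hl⟩, hrp, hcard⟩ := FiniteField.card F r
    have h4 : p ∣ r ^ l := by
      have h5 : Fintype.card F = r ^ l := hcard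
      rw [← h5, hF]
      exact dvd_pow h1 two_ne_zero
    have h6 : p = r := (Nat.prime_dvd_prime_iff_eq hp.out hrp).1 (hp.out.dvd_of_dvd_pow h4)
    rw [h6]
    exact CharP.cast_eq_zero F r
  have hnc' : ∀ P : Sylow p (PSU n F q), ¬ IsCyclic P := by
    intro P hP
    obtain ⟨Q⟩ : Nonempty (Sylow p X) := inferInstance
    have h1 : IsPGroup p ((Q : Subgroup X).map e.toMonoidHom) := Q.isPGroup'.map _
    obtain ⟨P', hP'⟩ := h1.exists_le_sylow
    have h2 : IsCyclic P' := isCyclic_of_surjective (P.equiv P').toMonoidHom (MulEquiv.surjective _)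
    have h3 : IsCyclic ((Q : Subgroup X).map e.toMonoidHom) :=
      isCyclic_of_injective (Subgroup.inclusion hP') (Subgroup.inclusion_injective _)
    refine hnc Q (isCyclic_of_injective (e.toMonoidHom.subgroupMap (Q : Subgroup X)) ?_)
    intro x y hxy
    exact Subtype.ext (e.injective (congrArg Subtype.val hxy))
  refine H776.CY.RowA.congr e (rowA_psu_of hF hn h32 hq ?_ hnc' (fun {d a n0} h1 h2 _ _ h5 h6 => ?_) (fun h4 h1 => ?_))
  · rw [← Nat.card_congr e.toEquiv]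
    exact hd
  · exact rowA_psu_lin hF hn h32 hp2 hq hna' h1 (by omega) h6 (by omega)
  · -- `p ∣ q - 1`
    have h5 := two_le hF
    have h6 : (q : ZMod p) = 1 := by
      have h7 : ((q - 1 : ℕ) : ZMod p) = 0 := (ZMod.natCast_eq_zero_iff _ _).2 h1
      rw [Nat.cast_sub (by omega), Nat.cast_one, sub_eq_zero] at h7
      exact h7
    have h7 : orderOf (-(q : ZMod p)) = 2 * 1 := by
      rw [h6, mul_one]
      apply orderOf_eq_prime
      · ring
      · intro h8
        have h9 : ((2 : ℕ) : ZMod p) = 0 := by push_cast; linear_combination -h8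
        exact hp2 ((Nat.prime_dvd_prime_iff_eq hp.out Nat.prime_two).1 ((ZMod.natCast_eq_zero_iff 2 p).1 h9))
    exact rowA_psu_lin hF hn h32 hp2 hq hna' h7 le_rfl le_rfl (by omega)

end Cfsg.Agent.H646.CY
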