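import Mathlib

/-!
# S4829: the automorphism group acts (helper646)

`S` acts on `X`, point stabilisers separate the points (`Sep`), every automorphism `a` of `S` is realised by a
permutation `σ` of `X` : `a s • σ x = σ (s • x)`.  Then `MulAut S` acts on `X` and `MulAut.conj s` acts as `s`.
-/

set_option autoImplicit false

open MulAction

namespace Cfsg.Agent.H646.CY

variable {S X : Type*} [Group S] [MulAction S X]

variable (S X) in
/-- the point stabilisers separate the points -/
def Sep : Prop := ∀ x y : X, (∀ s : S, s • x = x → s • y = y) → y = x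

/-- the permutation `σ` realises the automorphism `a` -/
def Real (a : MulAut S) (σ : Equiv.Perm X) : Prop := ∀ (s : S) (x : X), a s • σ x = σ (s • x)

theorem Real.one : Real (X := X) (1 : MulAut S) 1 := fun _ _ => rfl

theorem Real.mul {a b : MulAut S} {σ τ : Equiv.Perm X} (h : Real a σ) (h' : Real b τ) : Real (a * b) (σ * τ) := by
  intro s x
  rw [MulAut.mul_apply, Equiv.Perm.mul_apply, Equiv.Perm.mul_apply, h, h']

theorem Real.unique (hs : Sep S X) {a : MulAut S} {σ τ : Equiv.Perm X} (h : Real a σ) (h' : Real a τ) : σ = τ := by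
  apply Equiv.ext
  intro x
  have h1 : ∀ s : S, s • x = x → s • (σ⁻¹ (τ x)) = σ⁻¹ (τ x) := by
    intro s hsx
    apply σ.injective
    have h3 : σ (σ⁻¹ (τ x)) = τ x := σ.apply_symm_apply _
    rw [← h, h3, h', hsx]
  have h2 := hs x _ h1
  rw [Equiv.Perm.inv_eq_iff_eq] at h2
  exact h2.symm

theorem Real.conj (s : S) : Real (X := X) (MulAut.conj s) (MulAction.toPerm s) := by
  intro t x
  show (s * t * s⁻¹) • (s • x) = s • (t • x)
  rw [mul_smul, mul_smul, inv_smul_smul]

/-- the permutation of `a` -/
noncomputable def autPerm (hr : ∀ a : MulAut S, ∃ σ : Equiv.Perm X, Real a σ) (a : MulAut S) : Equiv.Perm X :=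
  (hr a).choose

theorem autPerm_real (hr : ∀ a : MulAut S, ∃ σ : Equiv.Perm X, Real a σ) (a : MulAut S) : Real a (autPerm hr a) :=
  (hr a).choose_spec

/-- the action of `MulAut S` -/
@[reducible] noncomputable def autAct (hs : Sep S X) (hr : ∀ a : MulAut S, ∃ σ : Equiv.Perm X, Real a σ) :
    MulAction (MulAut S) X where
  smul a x := autPerm hr a x
  one_smul x := by
    show autPerm hr 1 x = x
    rw [(autPerm_real hr 1).unique hs Real.one]
    rfl
  mul_smul a b x := by
    show autPerm hr (a * b) x = autPerm hr a (autPerm hr b x)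
    rw [(autPerm_real hr (a * b)).unique hs ((autPerm_real hr a).mul (autPerm_real hr b))]
    rfl

theorem autAct_smul (hs : Sep S X) (hr : ∀ a : MulAut S, ∃ σ : Equiv.Perm X, Real a σ) {a : MulAut S}
    {σ : Equiv.Perm X} (h : Real a σ) (x : X) : (letI := autAct hs hr; a • x) = σ x := by
  show autPerm hr a x = σ x
  rw [(autPerm_real hr a).unique hs h]

theorem autAct_conj (hs : Sep S X) (hr : ∀ a : MulAut S, ∃ σ : Equiv.Perm X, Real a σ) (s : S) (x : X) :
    (letI := autAct hs hr; MulAut.conj s • x) = s • x :=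
  autAct_smul hs hr (Real.conj s) x

theorem autAct_apply (hs : Sep S X) (hr : ∀ a : MulAut S, ∃ σ : Equiv.Perm X, Real a σ) (a : MulAut S) (s : S) (x : X) :
    (letI := autAct hs hr; a s • (a • x)) = (letI := autAct hs hr; a • (s • x)) :=
  autPerm_real hr a s x

end Cfsg.Agent.H646.CY
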