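import Cfsg.Agent.H646.CY.Sym
import Cfsg.Agent.H488.CY.Perm
import Cfsg.Agent.H145.BR.Count

/-!
# S4829: the row from a permutation action with symmetric orbitals (helper646)
-/

set_option autoImplicit false

open Cfsg MulAction
open scoped ComplexConjugate

namespace Cfsg.Agent.H646.CY

open Cfsg.Agent.Characters Cfsg.Agent.Characters.Core Cfsg.Agent.H145.BR Cfsg.Agent.H770.CY

universe u v

/-- **the row**: `MulAut S` acts on `X`, the orbitals of `S` are symmetric, `p` divides `|X|` and the constituents of the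
permutation character of `S` are `p`-cyclotomic -/
theorem rowA_of_symm {p : ℕ} [hp : Fact p.Prime] {S : Type u} [Group S] [Fintype S] {X : Type v} [Finite X] [Nonempty X]
    [MulAction S X] [MulAction (MulAut S) X] (hconj : ∀ (s : S) (x : X), MulAut.conj s • x = s • x)
    (hsym : ∀ x y : X, ∃ g : S, g • x = y ∧ g • y = x) (hd : p ∣ Nat.card X)
    (hcyc : ∀ χ : IrrCharacter S, classInner (permC S X) (χ : S → ℂ) ≠ 0 → Cyc p (χ : S → ℂ)) : RowA p S := by
  classical
  have : Finite (IrrCharacter S) := Core.finite_irr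
  have := Fintype.ofFinite (IrrCharacter S)
  have hpre : IsPretransitive S X := ⟨fun x y => (hsym x y).imp fun g hg => hg.1⟩
  let one : IrrCharacter S := ⟨fun _ => 1, Core.isIrr_one⟩
  obtain ⟨m, hm⟩ := Core.exists_nat_comb (isCharacter_permC (G := S) X)
  have hmc : ∀ ψ : IrrCharacter S, classInner (permC S X) (ψ : S → ℂ) = m ψ := by
    intro ψ
    conv_lhs => rw [hm]
    exact Core.classInner_sum_nsmul_irr m ψ
  have hm1 : ∀ ψ : IrrCharacter S, m ψ = 0 ∨ m ψ = 1 := by
    intro ψ
    have h1 := mul_permC_symm hsym ψ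
    rw [mul_eq_classInner, hmc] at h1
    rcases h1 with h1 | h1
    · exact Or.inl (by exact_mod_cast h1)
    · exact Or.inr (by exact_mod_cast h1)
  have hone : m one = 1 := by
    refine (hm1 one).resolve_left fun h0 => ?_
    have h2 := hmc one
    rw [h0, Nat.cast_zero, Core.classInner_def, mul_eq_zero] at h2
    rcases h2 with h2 | h2
    · exact (inv_ne_zero (by exact_mod_cast (Nat.card_pos (α := S)).ne')) h2
    · have h3 : ∑ g : S, permC S X g * conj ((one : S → ℂ) g) = ((∑ g : S, Nat.card (fixedBy X g) : ℕ) : ℂ) := by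
        push_cast
        refine Finset.sum_congr rfl fun g _ => ?_
        show _ * conj (1 : ℂ) = _
        rw [map_one, mul_one]
        rfl
      rw [h3, Nat.cast_eq_zero, Finset.sum_eq_zero_iff] at h2
      have h4 := h2 1 (Finset.mem_univ _)
      obtain ⟨x⟩ := ‹Nonempty X›
      have : Nonempty (fixedBy X (1 : S)) := ⟨⟨x, one_smul S x⟩⟩
      exact absurd h4 Nat.card_pos.ne'
  let J : Type u := {χ : IrrCharacter S // χ ≠ one ∧ m χ = 1}
  refine H488.CY.rowA_of_perm (X := X) (fun x y => ?_) inferInstance hd (fun j : J => j.1) Subtype.val_injective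
    (fun j => ⟨fun h => j.2.1 (Subtype.ext h), hcyc j.1 ?_⟩) ?_
  · obtain ⟨s, hs, -⟩ := hsym x y
    exact ⟨s, by rw [hconj, hs]⟩
  · rw [hmc, j.2.2]
    norm_num
  · intro s
    have h7 : (Nat.card (fixedBy X (MulAut.conj s : MulAut S)) : ℂ) = permC S X s := by
      show (Nat.card (fixedBy X (MulAut.conj s : MulAut S)) : ℂ) = (Nat.card (fixedBy X s) : ℂ)
      congr 1
      refine Nat.card_congr (Equiv.setCongr ?_)
      ext x
      rw [mem_fixedBy, mem_fixedBy, hconj]
    rw [h7, hm, Finset.sum_apply]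
    have h8 : ∀ ψ : IrrCharacter S, (m ψ • (ψ : S → ℂ)) s = if ψ = one then 1 else if m ψ = 1 then (ψ : S → ℂ) s else 0 := by
      intro ψ
      by_cases h9 : ψ = one
      · rw [if_pos h9, h9, hone, one_smul]
      · rw [if_neg h9]
        rcases hm1 ψ with h10 | h10
        · rw [h10, zero_smul, if_neg (by norm_num)]
          rfl
        · rw [h10, one_smul, if_pos rfl]
    rw [Finset.sum_congr rfl fun ψ _ => h8 ψ, ← Finset.add_sum_erase _ _ (Finset.mem_univ one), if_pos rfl]
    congr 1
    have h11 : ∀ ψ ∈ Finset.univ.erase one, (if ψ = one then (1 : ℂ) else if m ψ = 1 then (ψ : S → ℂ) s else 0) =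
        if m ψ = 1 then (ψ : S → ℂ) s else 0 := fun ψ hψ => if_neg (Finset.ne_of_mem_erase hψ)
    rw [Finset.sum_congr rfl h11, ← Finset.sum_filter]
    refine Finset.sum_subtype _ (fun χ => ?_) _
    rw [Finset.mem_filter, Finset.mem_erase, and_iff_left (Finset.mem_univ _)]

end Cfsg.Agent.H646.CY
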