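import Cfsg.Agent.H670.Gelfand
import Cfsg.Agent.H145.BR.CountDefs
import Cfsg.Agent.H770.CY.Defs

/-!
# S4829: symmetric orbitals, the permutation character is multiplicity free (helper646)
-/

set_option autoImplicit false

open Cfsg MulAction
open scoped ComplexConjugate

namespace Cfsg.Agent.H646.CY

open Cfsg.Agent.Characters.Core Cfsg.Agent.H145.BR Cfsg.Agent.H770.CY Cfsg.Agent.H670.Gelfand

universe u v

variable {G : Type u} [Group G]

theorem mul_eq_classInner [Fintype G] (ψ θ : G → ℂ) : H770.CY.mul ψ θ = classInner ψ θ := rfl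

/-- Frobenius reciprocity for a transitive permutation character -/
theorem classInner_permC [Fintype G] {X : Type v} [Finite X] [MulAction G X] [IsPretransitive G X] (x : X)
    [Fintype (stabilizer G x)] {χ : G → ℂ} (hχ : IsClassFunction G χ) :
    classInner χ (permC G X) = classInner (χ ∘ (stabilizer G x).subtype) (fun _ => (1 : ℂ)) := by
  classical
  have := Fintype.ofFinite X
  rw [classInner_def, classInner_def]
  have h1 : ∀ g : G, χ g * conj (permC G X g) = ∑ y : X, if g • y = y then χ g else 0 := by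
    intro g
    have h2 : permC G X g = ((Finset.univ.filter fun y : X => g • y = y).card : ℂ) := by
      unfold permC
      rw [Nat.card_eq_fintype_card, Fintype.card_subtype]
      rfl
    rw [h2, Complex.conj_natCast, ← Finset.sum_filter, Finset.sum_const, nsmul_eq_mul, mul_comm]
  have h3 : ∀ y : X, (∑ g : G, if g • y = y then χ g else 0) = ∑ h : stabilizer G x, χ h := by
    intro y
    obtain ⟨t, rfl⟩ := exists_smul_eq G x y
    rw [← Finset.sum_filter]
    symm
    refine Finset.sum_bij (fun h _ => t * (h : G) * t⁻¹) ?_ ?_ ?_ ?_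
    · rintro ⟨h, hh⟩ _
      rw [Finset.mem_filter]
      refine ⟨Finset.mem_univ _, ?_⟩
      rw [mem_stabilizer_iff] at hh
      rw [mul_smul, mul_smul, inv_smul_smul, hh]
    · rintro ⟨h, hh⟩ _ ⟨k, hk⟩ _ e
      apply Subtype.ext
      exact mul_left_cancel (mul_right_cancel e)
    · intro g hg
      rw [Finset.mem_filter] at hg
      refine ⟨⟨t⁻¹ * g * t, ?_⟩, Finset.mem_univ _, ?_⟩
      · rw [mem_stabilizer_iff, mul_smul, mul_smul, hg.2, inv_smul_smul]
      · show t * (t⁻¹ * g * t) * t⁻¹ = g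
        group
    · rintro ⟨h, hh⟩ _
      exact (hχ h t).symm
  rw [Finset.sum_congr rfl fun g _ => h1 g, Finset.sum_comm, Finset.sum_congr rfl fun y _ => h3 y, Finset.sum_const,
    Finset.card_univ, nsmul_eq_mul]
  have h4 : Nat.card G = Fintype.card X * Nat.card (stabilizer G x) := by
    have h5 := (stabilizer G x).card_mul_index
    rw [index_stabilizer_of_transitive] at h5
    rw [← h5, mul_comm, Nat.card_eq_fintype_card (α := X)]
  have h6 : (Fintype.card X : ℂ) ≠ 0 := by
    have : Nonempty X := ⟨x⟩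
    exact Nat.cast_ne_zero.2 Fintype.card_ne_zero
  have h7 : (Nat.card (stabilizer G x) : ℂ) ≠ 0 := Nat.cast_ne_zero.2 Nat.card_pos.ne'
  rw [h4, Nat.cast_mul]
  have h8 : ∑ g : stabilizer G x, (χ ∘ (stabilizer G x).subtype) g * conj (1 : ℂ) = ∑ h : stabilizer G x, χ h := by
    refine Finset.sum_congr rfl fun h _ => ?_
    rw [map_one, mul_one]
    rfl
  rw [h8]
  field_simp

/-- Gelfand: a subgroup `A` with symmetric double cosets -/
theorem mult_le_one_symm [Fintype G] {A : Type v} [Group A] [Fintype A] (i : A →* G)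
    (h : ∀ g : G, ∃ a b : A, g⁻¹ = i a * g * i b) {χ : G → ℂ} (hχ : IsIrrCharacter G χ) :
    classInner (χ ∘ i) (fun _ => (1 : ℂ)) = 0 ∨ classInner (χ ∘ i) (fun _ => (1 : ℂ)) = 1 := by
  classical
  obtain ⟨n, ρ, hρ, rfl⟩ := hχ
  set E := idem i (1 : A →* ℂˣ) ρ with hE
  set m := LinearMap.trace ℂ (Fin n → ℂ) E with hm
  have htr : classInner (ρ.character ∘ i) (fun _ => (1 : ℂ)) = m := by
    rw [hm, hE, trace_idem]
    rfl
  rw [htr]
  have hEE : E * E = E := idem_mul_idem i _ ρ
  have hEd : E = (Fintype.card A : ℂ)⁻¹ • ∑ a : A, ρ (i a) := by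
    rw [hE, idem_def]
    congr 1
    refine Finset.sum_congr rfl fun a _ => ?_
    rw [MonoidHom.one_apply, Units.val_one, one_smul]
  have hLE : ∀ a : A, ρ (i a) * E = E := by
    intro a
    rw [hE, rho_mul_idem, MonoidHom.one_apply, Units.val_one, one_smul]
  have hER : ∀ a : A, E * ρ (i a) = E := by
    intro a
    rw [hE, idem_mul_rho, MonoidHom.one_apply, Units.val_one, one_smul]
  -- the operators `A_x = E ρ(x) E`
  set Ax : G → Module.End ℂ (Fin n → ℂ) := fun x => E * ρ x * E with hAx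
  have hprod : ∀ x y : G, Ax x * Ax y = (Fintype.card A : ℂ)⁻¹ • ∑ a : A, Ax (x * i a * y) := by
    intro x y
    have h1 : Ax x * Ax y = E * ρ x * E * (ρ y * E) := by
      simp only [hAx]
      calc E * ρ x * E * (E * ρ y * E) = E * ρ x * (E * E) * (ρ y * E) := by noncomm_ring
        _ = E * ρ x * E * (ρ y * E) := by rw [hEE]
    have h2 : E * ρ x * E * (ρ y * E) = E * ρ x * ((Fintype.card A : ℂ)⁻¹ • ∑ a : A, ρ (i a)) * (ρ y * E) := by
      rw [← hEd]
    rw [h1, h2, mul_smul_comm, smul_mul_assoc, Finset.mul_sum, Finset.sum_mul]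
    congr 1
    refine Finset.sum_congr rfl fun a _ => ?_
    simp only [hAx, map_mul]
    noncomm_ring
  have hτx : ∀ x : G, Ax x⁻¹ = Ax x := by
    intro x
    obtain ⟨a, b, h1⟩ := h x
    rw [h1]
    simp only [hAx, map_mul]
    calc E * (ρ (i a) * ρ x * ρ (i b)) * E = (E * ρ (i a)) * ρ x * (ρ (i b) * E) := by noncomm_ring
      _ = E * ρ x * E := by rw [hER, hLE]
  have hcomm : ∀ x y : G, Ax x * Ax y = Ax y * Ax x := by
    intro x y
    have e1 : Ax x * Ax y = Ax x⁻¹ * Ax y⁻¹ := by rw [hτx, hτx]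
    rw [e1, hprod x⁻¹ y⁻¹, hprod y x]
    congr 1
    refine Fintype.sum_equiv (Equiv.inv A) _ _ fun a => ?_
    rw [Equiv.inv_apply, map_inv, ← hτx (y * (i a)⁻¹ * x)]
    congr 1
    group
  by_cases hm0 : m = 0
  · left; exact hm0
  right
  have hn : (Module.finrank ℂ (Fin n → ℂ) : ℂ) ≠ 0 := by
    have := Characters.Ito.finrank_pos_of_irreducible ρ
    exact_mod_cast this.ne'
  have hscal : ∀ y : G, Ax y = (LinearMap.trace ℂ (Fin n → ℂ) (Ax y) / m) • E := by
    intro y
    have h1 := Characters.Ito.sum_conj ρ (Ax y)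
    have h2 := Characters.Ito.sum_conj ρ E
    have h3 : E * (∑ g : G, ρ g * Ax y * ρ g⁻¹) * E = Ax y * (E * (∑ g : G, ρ g * E * ρ g⁻¹) * E) := by
      rw [Finset.mul_sum, Finset.sum_mul, Finset.mul_sum, Finset.sum_mul, Finset.mul_sum]
      refine Finset.sum_congr rfl fun g _ => ?_
      have h4 : E * (ρ g * Ax y * ρ g⁻¹) * E = Ax g * Ax y * Ax g⁻¹ := by
        simp only [hAx]
        calc E * (ρ g * (E * ρ y * E) * ρ g⁻¹) * E = E * ρ g * E * ρ y * E * ρ g⁻¹ * E := by noncomm_ring
          _ = E * ρ g * (E * E) * ρ y * (E * E) * ρ g⁻¹ * E := by rw [hEE]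
          _ = _ := by noncomm_ring
      have h5 : Ax y * (E * (ρ g * E * ρ g⁻¹) * E) = Ax y * (Ax g * Ax g⁻¹) := by
        simp only [hAx]
        calc E * ρ y * E * (E * (ρ g * E * ρ g⁻¹) * E) =
            E * ρ y * E * (E * ρ g * E * ρ g⁻¹ * E) := by noncomm_ring
          _ = E * ρ y * E * (E * ρ g * (E * E) * ρ g⁻¹ * E) := by rw [hEE]
          _ = _ := by noncomm_ring
      rw [h4, h5, hcomm g y, mul_assoc]
    rw [h1, h2] at h3
    simp only [mul_smul_comm, smul_mul_assoc, mul_one, hEE] at h3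
    have h6 : Ax y * E = Ax y := by
      simp only [hAx]
      rw [mul_assoc, hEE]
    rw [h6, ← hm] at h3
    have hG : (Fintype.card G : ℂ) ≠ 0 := Nat.cast_ne_zero.2 Fintype.card_ne_zero
    have h8 : LinearMap.trace ℂ (Fin n → ℂ) (Ax y) • E = m • Ax y := by
      have h9 := congrArg (fun X => ((Module.finrank ℂ (Fin n → ℂ) : ℂ) / (Fintype.card G : ℂ)) • X) h3
      simp only [smul_smul] at h9
      have e1 : (Module.finrank ℂ (Fin n → ℂ) : ℂ) / (Fintype.card G : ℂ) *
          ((Fintype.card G : ℂ) * LinearMap.trace ℂ (Fin n → ℂ) (Ax y) / (Module.finrank ℂ (Fin n → ℂ) : ℂ)) =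
          LinearMap.trace ℂ (Fin n → ℂ) (Ax y) := by
        field_simp
      have e2 : (Module.finrank ℂ (Fin n → ℂ) : ℂ) / (Fintype.card G : ℂ) *
          ((Fintype.card G : ℂ) * m / (Module.finrank ℂ (Fin n → ℂ) : ℂ)) = m := by
        field_simp
      rw [e1, e2] at h9
      exact h9
    rw [div_eq_inv_mul, mul_smul, h8, smul_smul, inv_mul_cancel₀ hm0, one_smul]
  -- a nonzero vector of the range
  have hE0 : E ≠ 0 := by
    intro h0
    apply hm0
    rw [hm, h0, map_zero]
  obtain ⟨v, hv⟩ : ∃ v, E v ≠ 0 := by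
    by_contra hcon
    push Not at hcon
    exact hE0 (LinearMap.ext hcon)
  have hEv : E (E v) = E v := by
    have := congrArg (fun X : Module.End ℂ (Fin n → ℂ) => X v) hEE
    exact this
  let S : Subrepresentation ρ :=
    { toSubmodule := ⨅ g : G, (Submodule.span ℂ {E v}).comap (E * ρ g)
      apply_mem_toSubmodule := by
        intro h w hw
        rw [Submodule.mem_iInf] at hw ⊢
        intro g
        have h1 := hw (g * h)
        rw [Submodule.mem_comap] at h1 ⊢
        rw [map_mul] at h1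
        exact h1 }
  have hvS : E v ∈ S.toSubmodule := by
    show E v ∈ ⨅ g : G, (Submodule.span ℂ {E v}).comap (E * ρ g)
    rw [Submodule.mem_iInf]
    intro g
    rw [Submodule.mem_comap]
    have h1 : (E * ρ g) (E v) = (Ax g) v := rfl
    rw [h1, hscal g]
    exact Submodule.smul_mem _ _ (Submodule.mem_span_singleton_self _)
  have hSne : S ≠ ⊥ := by
    intro h0
    rw [h0] at hvS
    exact hv ((Submodule.mem_bot ℂ).1 hvS)
  have hStop : S = ⊤ := (hρ.eq_bot_or_eq_top S).resolve_left hSne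
  have hrange : ∀ w, E w ∈ Submodule.span ℂ {E v} := by
    intro w
    have hw : w ∈ S.toSubmodule := by
      rw [hStop]
      exact Submodule.mem_top
    have h1 : w ∈ ⨅ g : G, (Submodule.span ℂ {E v}).comap (E * ρ g) := hw
    rw [Submodule.mem_iInf] at h1
    have h2 := h1 1
    rw [Submodule.mem_comap, map_one, mul_one] at h2
    exact h2
  have hproj : LinearMap.IsProj (Submodule.span ℂ {E v}) E :=
    ⟨hrange, by
      intro w hw
      obtain ⟨c, rfl⟩ := Submodule.mem_span_singleton.1 hw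
      rw [map_smul, hEv]⟩
  rw [hm, hproj.trace, finrank_span_singleton hv, Nat.cast_one]

/-- **symmetric orbitals**: multiplicity free -/
theorem mul_permC_symm [Fintype G] {X : Type v} [Finite X] [Nonempty X] [MulAction G X]
    (hs : ∀ x y : X, ∃ g : G, g • x = y ∧ g • y = x) (θ : IrrCharacter G) :
    H770.CY.mul (permC G X) (θ : G → ℂ) = 0 ∨ H770.CY.mul (permC G X) (θ : G → ℂ) = 1 := by
  classical
  have : IsPretransitive G X := ⟨fun x y => (hs x y).imp fun g hg => hg.1⟩
  obtain ⟨x⟩ := ‹Nonempty X›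
  have := Fintype.ofFinite (stabilizer G x)
  have h1 := mult_le_one_symm (stabilizer G x).subtype (fun g => by
    -- `g` moves `x` to `y = g x`; `t` swaps `x` and `y`
    obtain ⟨t, ht1, ht2⟩ := hs x (g • x)
    refine ⟨⟨g⁻¹ * t, ?_⟩, ⟨g⁻¹ * t⁻¹, ?_⟩, ?_⟩
    · rw [mem_stabilizer_iff, mul_smul, ht1, inv_smul_smul]
    · rw [mem_stabilizer_iff, mul_smul, inv_smul_eq_iff, inv_smul_eq_iff, ht2]
    · show g⁻¹ = g⁻¹ * t * g * (g⁻¹ * t⁻¹)
      group) θ.2
  rw [← classInner_permC x (isIrr_isClassFunction θ.2)] at h1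
  rw [mul_eq_classInner, ← classInner_conj_symm]
  rcases h1 with h1 | h1
  · left
    rw [h1, map_zero]
  · right
    rw [h1, map_one]

end Cfsg.Agent.H646.CY
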