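import Cfsg.Agent.H646.BR.UDefs

/-!
# S4829: the stabilisers in `PSU n F q` separate the totally isotropic subspaces (helper646)
-/

set_option autoImplicit false

open Module

namespace Cfsg.Agent.H646.CY

open Cfsg Matrix
open Cfsg.Agent.H2.Pol Cfsg.Agent.H646.BR.U
open Cfsg.Agent.LieClassical.HermBasic Cfsg.Agent.LieClassical.HermSiegel Cfsg.Agent.LieClassical.SUBasic
open Cfsg.Agent.ClassicalGeometry.PSUAutBasic Cfsg.Agent.ClassicalGeometry.PSUAutCount

variable {F : Type*} [Field F] [Fintype F] {n q : ℕ}

/-- the double orthogonal space -/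
theorem mem_of_perp_perp (hF : Fintype.card F = q ^ 2) {U : Submodule F (Fin n → F)} {w : Fin n → F}
    (h : ∀ x : Fin n → F, (∀ u ∈ U, hermForm n F q x u = 0) → hermForm n F q x w = 0) : w ∈ U := by
  classical
  let b := Module.finBasis F U
  have h1 : ⨅ i, LinearMap.ker ((hpol hF n).L (b i : Fin n → F)) ≤ LinearMap.ker ((hpol hF n).L w) := by
    intro x hx
    rw [Submodule.mem_iInf] at hx
    rw [LinearMap.mem_ker, hpol_L]
    apply h
    intro u hu
    have h2 := b.sum_repr ⟨u, hu⟩
    have h3 : u = ∑ i, b.repr ⟨u, hu⟩ i • (b i : Fin n → F) := by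
      have h4 : ((∑ i, b.repr ⟨u, hu⟩ i • b i : U) : Fin n → F) = u := by rw [h2]
      refine h4.symm.trans ?_
      rw [Submodule.coe_sum]
      rfl
    rw [h3, herm_sum_right hF]
    refine Finset.sum_eq_zero fun i _ => ?_
    have h4 := hx i
    rw [LinearMap.mem_ker, hpol_L] at h4
    rw [herm_smul_right, h4, mul_zero]
  have h2 := mem_span_of_iInf_ker_le_ker h1
  rw [Submodule.mem_span_range_iff_exists_fun] at h2
  obtain ⟨c, hc⟩ := h2
  have h3 : w = ∑ i, c i ^ q • (b i : Fin n → F) := by
    have h4 : w - ∑ i, c i ^ q • (b i : Fin n → F) = 0 := by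
      apply herm_nondeg hF
      intro x
      rw [herm_eq_zero_swap hF]
      rw [herm_sub_right hF, herm_sum_right hF]
      have h5 := congrArg (fun f : (Fin n → F) →ₗ[F] F => f x) hc
      simp only [LinearMap.sum_apply, LinearMap.smul_apply, hpol_L, smul_eq_mul] at h5
      rw [← h5, sub_eq_zero]
      refine Finset.sum_congr rfl fun i _ => ?_
      rw [herm_smul_right, pow_q_pow_q hF]
    exact sub_eq_zero.1 h4
  rw [h3]
  exact Submodule.sum_mem _ fun i _ => U.smul_mem _ (b i).2

/-- **separation** : a totally isotropic `W` which is fixed by every element of `SU` fixing `U` is `U`, when the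
dimensions are the same -/
theorem eq_of_stab (hF : Fintype.card F = q ^ 2) {k : ℕ} (U W : uX hF n k)
    (h : ∀ g : SU n F q, g • U = U → g • W = W) : W = U := by
  obtain ⟨μ, hμ0, hμ⟩ := exists_trace_zero_ne hF
  -- transvections with a singular centre orthogonal to `U`
  have key : ∀ u : Fin n → F, hermForm n F q u u = 0 → (∀ x ∈ U.1, hermForm n F q x u = 0) →
      ∀ w ∈ W.1, hermForm n F q w u = 0 := by
    intro u hu hUu w hw
    by_contra hne
    have hS : IsSiegel q u 0 μ := ⟨hu, herm_zero_left u, by rw [herm_zero_left, add_zero]; exact hμ⟩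
    have hact : ∀ v, act (siegel hF u 0 μ hS) v = v + (μ * hermForm n F q v u) • u := by
      intro v
      rw [act_siegel, herm_zero_right hF, smul_zero, add_zero, sub_zero]
    have hfix : ∀ x ∈ U.1, act (siegel hF u 0 μ hS) x = x := by
      intro x hx
      rw [hact, hUu x hx, mul_zero, zero_smul, add_zero]
    have h1 : (siegel hF u 0 μ hS) • U = U := by
      apply Subtype.ext
      rw [su_smul]
      apply Submodule.eq_of_le_of_finrank_eq
      · rintro _ ⟨x, hx, rfl⟩
        have h2 : suL n F q (siegel hF u 0 μ hS) x = x := hfix x hx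
        change suL n F q (siegel hF u 0 μ hS) x ∈ U.1
        rw [h2]
        exact hx
      · exact (LinearEquiv.finrank_map_eq _ _)
    have h2 := h _ h1
    have h3 : act (siegel hF u 0 μ hS) w ∈ W.1 := by
      have h4 : suL n F q (siegel hF u 0 μ hS) w ∈ ((siegel hF u 0 μ hS) • W).1 := by
        rw [su_smul]
        exact ⟨w, hw, rfl⟩
      rw [h2] at h4
      exact h4
    have hTI := (TI_iff hF).1 W.2.1
    have h5 : u ∈ W.1 := by
      rw [hact] at h3
      have h6 := W.1.sub_mem h3 hw
      rw [add_sub_cancel_left] at h6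
      have h7 := W.1.smul_mem (μ * hermForm n F q w u)⁻¹ h6
      rwa [smul_smul, inv_mul_cancel₀ (mul_ne_zero hμ0 hne), one_smul] at h7
    exact hne (hTI w hw u h5)
  have hTU := (TI_iff hF).1 U.2.1
  have hTW := (TI_iff hF).1 W.2.1
  -- `U` and `W` are orthogonal
  have horth : ∀ w ∈ W.1, ∀ u ∈ U.1, hermForm n F q w u = 0 := fun w hw u hu =>
    key u (hTU u hu u hu) (fun x hx => hTU x hx u hu) w hw
  apply Subtype.ext
  apply Submodule.eq_of_le_of_finrank_eq
  · intro w hw
    apply mem_of_perp_perp hF
    intro x hx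
    by_contra hne
    -- a singular vector `x + c w`
    obtain ⟨t, ht⟩ := exists_trace_eq hF (c := -hermForm n F q x x) (by
      rw [neg_pow_q hF, herm_self_pow hF])
    set c : F := t * (hermForm n F q w x)⁻¹ with hc
    have hwx : hermForm n F q w x ≠ 0 := fun h0 => hne (herm_eq_zero_swap hF h0)
    have hcw : c * hermForm n F q w x = t := by
      rw [hc, mul_assoc, inv_mul_cancel₀ hwx, mul_one]
    have hs : hermForm n F q (x + c • w) (x + c • w) = 0 := by
      rw [herm_add_left, herm_add_right hF, herm_add_right hF, herm_smul_left, herm_smul_left, herm_smul_right,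
        herm_smul_right, hTW w hw w hw, mul_zero, mul_zero, add_zero, hcw]
      have h6 : c ^ q * hermForm n F q x w = t ^ q := by
        rw [herm_swap hF w x, ← mul_pow, hcw]
      rw [h6]
      linear_combination ht
    have h7 := key (x + c • w) hs (fun y hy => by
      rw [herm_add_right hF, herm_smul_right, herm_eq_zero_swap hF (hx y hy), herm_eq_zero_swap hF (horth w hw y hy),
        mul_zero, add_zero]) w hw
    rw [herm_add_right hF, herm_smul_right, hTW w hw w hw, mul_zero, add_zero] at h7
    exact hwx h7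
  · rw [U.2.2, W.2.2]

end Cfsg.Agent.H646.CY
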