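import Cfsg.Agent.H646.CY.AutAct
import Cfsg.Agent.H646.CY.USep
import Cfsg.Agent.H646.CY.Sym
import Cfsg.Agent.H646.BR.URow

/-!
# S4829: `MulAut (PSU n F q)` acts on the totally isotropic subspaces (helper646)
-/

set_option autoImplicit false

open Module

namespace Cfsg.Agent.H646.CY

open Cfsg Matrix
open Cfsg.Agent.H2.Pol Cfsg.Agent.H646.BR Cfsg.Agent.H646.BR.U Cfsg.Agent.H145.BR Cfsg.Agent.H674.BR Cfsg.Agent.H623.BR
open Cfsg.Agent.LieClassical.HermBasic Cfsg.Agent.LieClassical.HermSiegel Cfsg.Agent.LieClassical.SUBasic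
open Cfsg.Agent.ClassicalGeometry.PSUAutBasic Cfsg.Agent.ClassicalGeometry.PSUAutCount

/-! ### semisimilarities preserve types -/

section sub

variable {F V : Type*} [Field F] [AddCommGroup V] [Module F V] {Φ : Pol F V} {M : V ≃+ V}

/-- the lattice automorphism of a semisimilarity -/
def subIso (hM : SemiAct Φ M) : Submodule F V ≃o Submodule F V where
  toFun := hM.sub
  invFun := hM.symm.sub
  left_inv := hM.sub_symm_sub
  right_inv := hM.sub_sub_symm
  map_rel_iff' := by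
    intro A B
    constructor
    · intro h x hx
      exact hM.mem_sub.1 (h (hM.mem_sub.2 hx))
    · rintro h _ ⟨x, hx, rfl⟩
      exact ⟨x, h hx, rfl⟩

theorem typ_sub [Finite F] [FiniteDimensional F V] (hM : SemiAct Φ M) (A B : Submodule F V) :
    typ Φ (hM.sub A) (hM.sub B) = typ Φ A B := by
  have h2 : ∀ U W, Φ.Orth (subIso hM U) (subIso hM W) ↔ Φ.Orth U W := by
    intro U W
    constructor
    · intro h x hx y hy
      exact (hM.orth x y).1 (h (M x) ⟨x, hx, rfl⟩ (M y) ⟨y, hy, rfl⟩)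
    · rintro h _ ⟨x, hx, rfl⟩ _ ⟨y, hy, rfl⟩
      exact (hM.orth x y).2 (h x hx y hy)
  have h3 : ∀ U, hM.sub U = subIso hM U := fun _ => rfl
  have h4 : ∀ U, finrank F ↥(subIso hM U) = finrank F ↥U := fun U => hM.finrank U
  unfold typ
  rw [h3, h3, ← perp_map h2, ← (subIso hM).map_inf, ← (subIso hM).map_inf, h4, h4]

end sub

variable {F : Type*} [Field F] [Fintype F] {n q : ℕ}

/-- every automorphism is realised on the totally isotropic `k`-spaces -/
theorem psu_real (hF : Fintype.card F = q ^ 2) (hn : 3 ≤ n) (h32 : ¬ (n = 3 ∧ q = 2)) (k : ℕ)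
    (a : MulAut (PSU n F q)) :
    ∃ σ : Equiv.Perm (uX hF n k), (letI := psuAct hF hn k; Real a σ) ∧
      ∀ U W : uX hF n k, typ (hpol hF n) (σ U).1 (σ W).1 = typ (hpol hF n) U.1 W.1 := by
  let _ := psuAct hF hn k
  obtain ⟨M, hM, ha⟩ := H987.BR.psu_aut hF hn h32 a
  refine ⟨hM.perm k, ?_, fun U W => typ_sub hM U.1 W.1⟩
  intro x U
  obtain ⟨g, rfl⟩ : ∃ g, pr n F q g = x := QuotientGroup.mk_surjective x
  obtain ⟨g', hg', hm⟩ := ha g
  have key : ∀ U : Submodule F (Fin n → F), mv (suL n F q) g' (hM.sub U) = hM.sub (mv (suL n F q) g U) := by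
    intro U
    ext v
    constructor
    · rintro ⟨_, ⟨x, hx, rfl⟩, rfl⟩
      exact ⟨suL n F q g x, ⟨x, hx, rfl⟩, (hm x).symm⟩
    · rintro ⟨_, ⟨x, hx, rfl⟩, rfl⟩
      exact ⟨M x, ⟨x, hx, rfl⟩, hm x⟩
  have h1 : pr n F q g • U = g • U := psu_smul hF hn g U
  have h3 : pr n F q g' • hM.perm k U = g' • hM.perm k U := psu_smul hF hn g' _
  rw [← hg', h1, h3]
  exact Subtype.ext (key U.1)

theorem psu_sep (hF : Fintype.card F = q ^ 2) (hn : 3 ≤ n) (k : ℕ) :
    letI := psuAct hF hn k; Sep (PSU n F q) (uX hF n k) := by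
  intro U W h
  refine eq_of_stab hF U W fun g hg => ?_
  exact h (pr n F q g) hg

/-- **the action of the automorphism group** -/
@[reducible] noncomputable def psuAutAct (hF : Fintype.card F = q ^ 2) (hn : 3 ≤ n) (h32 : ¬ (n = 3 ∧ q = 2)) (k : ℕ) :
    MulAction (MulAut (PSU n F q)) (uX hF n k) :=
  letI := psuAct hF hn k
  autAct (psu_sep hF hn k) fun a => (psu_real hF hn h32 k a).imp fun _ h => h.1

theorem psuAutAct_conj (hF : Fintype.card F = q ^ 2) (hn : 3 ≤ n) (h32 : ¬ (n = 3 ∧ q = 2)) (k : ℕ)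
    (s : PSU n F q) (U : uX hF n k) :
    (letI := psuAutAct hF hn h32 k; MulAut.conj s • U) = (letI := psuAct hF hn k; s • U) := by
  let _ := psuAct hF hn k
  exact autAct_conj (psu_sep hF hn k) (fun a => (psu_real hF hn h32 k a).imp fun _ h => h.1) s U

theorem psuAutAct_typ (hF : Fintype.card F = q ^ 2) (hn : 3 ≤ n) (h32 : ¬ (n = 3 ∧ q = 2)) (k : ℕ)
    (a : MulAut (PSU n F q)) (U W : uX hF n k) :
    (letI := psuAutAct hF hn h32 k; typ (hpol hF n) (a • U).1 (a • W).1) = typ (hpol hF n) U.1 W.1 := by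
  let _ := psuAct hF hn k
  obtain ⟨σ, h1, h2⟩ := psu_real hF hn h32 k a
  have h3 : ∀ U, (letI := psuAutAct hF hn h32 k; a • U) = σ U := fun U =>
    autAct_smul (psu_sep hF hn k) (fun a => (psu_real hF hn h32 k a).imp fun _ h => h.1) h1 U
  show typ (hpol hF n) (letI := psuAutAct hF hn h32 k; a • U).1 (letI := psuAutAct hF hn h32 k; a • W).1 = _
  rw [h3, h3, h2]

/-- **every `PSU`-orbital is preserved** -/
theorem psuAutAct_pair (hF : Fintype.card F = q ^ 2) (hn : 3 ≤ n) (h32 : ¬ (n = 3 ∧ q = 2)) (k : ℕ)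
    (a : MulAut (PSU n F q)) (U W : uX hF n k) :
    ∃ s : PSU n F q, (letI := psuAct hF hn k; s • U) = (letI := psuAutAct hF hn h32 k; a • U) ∧
      (letI := psuAct hF hn k; s • W) = (letI := psuAutAct hF hn h32 k; a • W) :=
  H158.BR.psu_pairs hF hn U W _ _ (psuAutAct_typ hF hn h32 k a U W).symm

end Cfsg.Agent.H646.CY
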