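import Cfsg.Agent.H646.CY.URowDvd
import Cfsg.Agent.H953.Dg.Cyc
import Cfsg.Agent.H776.CY.Noncyc
import Cfsg.Agent.H776.CY.Congr

/-!
# S4829: the row `PSU_n(q)`, the case distinction (helper646)

`rowA_psu_of` : the row for noncyclic Sylow `p`-subgroups from the exceptional case (`-q` of order `2 d ≥ 4`,
`n = n0 + a * (2 d)`, `a ≥ 2`) and the case `p ∣ q - 1`, `n ≥ 4`.
-/

set_option autoImplicit false

open Module

namespace Cfsg.Agent.H646.CY

open Cfsg Matrix
open Cfsg.Agent.H2.Pol Cfsg.Agent.H646.BR Cfsg.Agent.H646.BR.U Cfsg.Agent.H145.BR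
open Cfsg.Agent.H770.CY
open Cfsg.Agent.LieClassical.HermBasic

variable {F : Type} [Field F] [Fintype F] {n q : ℕ} {p : ℕ} [hp : Fact p.Prime]

/-- `n < 2 * ord(-q)`: cyclic Sylow subgroups -/
theorem psu_cyclic (hF : Fintype.card F = q ^ 2) (hn : 3 ≤ n) (h1 : n < 2 * orderOf (-(q : ZMod p)))
    (h2 : orderOf (-(q : ZMod p)) ≤ n) (P : Sylow p (PSU n F q)) : IsCyclic P :=
  H953.Dg.cyc_psu hF hn ⟨hp.out, h1, h2⟩ P P.isPGroup'

/-- **the row `PSU_n(q)`** for noncyclic Sylow subgroups -/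
theorem rowA_psu_of (hF : Fintype.card F = q ^ 2) (hn : 3 ≤ n) (h32 : ¬ (n = 3 ∧ q = 2)) (hq : ¬ p ∣ q)
    [Fintype (PSU n F q)] (h : p ∣ Nat.card (PSU n F q)) (hnc : ∀ P : Sylow p (PSU n F q), ¬ IsCyclic P)
    (exc : ∀ {d a n0 : ℕ}, orderOf (-(q : ZMod p)) = 2 * d → n = n0 + a * (2 * d) → n0 < 2 * d →
      n0 / 2 + 1 = d → 2 ≤ d → 2 ≤ a → RowA p (PSU n F q))
    (hone : 4 ≤ n → p ∣ q - 1 → RowA p (PSU n F q)) : RowA p (PSU n F q) := by
  have hle := orderOf_le hF (by omega) hq h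
  have hpos := orderOf_pos' (p := p) hq
  have hbig : 2 * orderOf (-(q : ZMod p)) ≤ n := by
    by_contra hcon
    obtain ⟨P⟩ : Nonempty (Sylow p (PSU n F q)) := inferInstance
    exact hnc P (psu_cyclic hF hn (by omega) hle P)
  rcases Nat.even_or_odd (orderOf (-(q : ZMod p))) with he | ho
  · obtain ⟨d, hd⟩ := he
    have hd2 : orderOf (-(q : ZMod p)) = 2 * d := by omega
    have hd1 : 1 ≤ d := by omega
    obtain ⟨a, n0, hn0, hna⟩ : ∃ a n0 : ℕ, n0 < 2 * d ∧ n = n0 + a * (2 * d) :=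
      ⟨n / (2 * d), n % (2 * d), Nat.mod_lt _ (by omega), (Nat.mod_add_div' n (2 * d)).symm⟩
    have ha : 2 ≤ a := by
      by_contra h0
      have h1 : a * (2 * d) ≤ 1 * (2 * d) := Nat.mul_le_mul_right _ (by omega)
      omega
    rcases lt_trichotomy (n0 / 2 + 1) d with hlt | heq | hgt
    · have had : 2 * (2 * d) ≤ a * (2 * d) := Nat.mul_le_mul_right _ ha
      exact psu_dvd hF hn h32 (k := n0 / 2 + 1) (by omega) (H666.BR.dvd_card_even hF hd2 hna (by omega) hlt)
    · rcases Nat.lt_or_ge d 2 with h1 | h2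
      · have hd1' : d = 1 := by omega
        subst hd1'
        have h3 : (-(q : ZMod p)) ^ 2 = 1 := by
          have := pow_orderOf_eq_one (-(q : ZMod p))
          rwa [hd2] at this
        have h4 : ((q : ZMod p) - 1) * ((q : ZMod p) + 1) = 0 := by
          rw [neg_sq] at h3
          linear_combination h3
        have h5 : (q : ZMod p) + 1 ≠ 0 := by
          intro h6
          have h7 : -(q : ZMod p) = 1 := by linear_combination -h6
          rw [h7, orderOf_one] at hd2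
          omega
        have h6 : (q : ZMod p) - 1 = 0 := (mul_eq_zero.1 h4).resolve_right h5
        refine hone (by omega) ?_
        rw [← ZMod.natCast_eq_zero_iff, Nat.cast_sub (by have := two_le hF; omega), Nat.cast_one]
        exact h6
      · exact exc hd2 hna hn0 heq h2 ha
    · omega
  · exact psu_dvd hF hn h32 (k := n / 2) (by omega) (H666.BR.dvd_card_odd hF hn ho hle)

/-- **the field `psu` for noncyclic Sylow subgroups** -/
theorem rowForAN_psu_of (p : ℕ) [hp : Fact p.Prime]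
    (exc : ∀ {F : Type} [Field F] [Fintype F] {n q : ℕ}, Fintype.card F = q ^ 2 → 3 ≤ n → ¬ (n = 3 ∧ q = 2) → ¬ p ∣ q →
      ∀ [Fintype (PSU n F q)] {d a n0 : ℕ}, orderOf (-(q : ZMod p)) = 2 * d → n = n0 + a * (2 * d) → n0 < 2 * d →
      n0 / 2 + 1 = d → 2 ≤ d → 2 ≤ a → RowA p (PSU n F q))
    (hone : ∀ {F : Type} [Field F] [Fintype F] {n q : ℕ}, Fintype.card F = q ^ 2 → 4 ≤ n → ¬ p ∣ q →
      ∀ [Fintype (PSU n F q)], (∀ P : Sylow p (PSU n F q), ¬ IsCyclic P) → p ∣ q - 1 → RowA p (PSU n F q)) :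
    H776.CY.RowForAN p (fun X _ => ∃ (F : Type) (_ : Field F) (_ : Fintype F) (n q : ℕ), (p : F) ≠ 0 ∧
      Fintype.card F = q ^ 2 ∧ 3 ≤ n ∧ Nonempty (X ≃* PSU n F q)) := by
  intro X _ _ _ hna hd hnc hX
  obtain ⟨F, _, _, n, q, hpF, hF, hn, ⟨e⟩⟩ := hX
  have hfin : Fintype (PSU n F q) := Fintype.ofFinite _
  have h32 : ¬ (n = 3 ∧ q = 2) := by
    rintro ⟨rfl, rfl⟩
    have h1 : Group.IsSolvable (PSU 3 F 2) := (Cfsg.Agent.S0282.result (by rw [hF]; rfl)).2
    have h2 : Group.IsSolvable X := Group.isSolvable_of_isSolvable_injective (f := e.toMonoidHom) e.injective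
    exact hna ⟨⟨(IsSimpleGroup.comm_iff_isSolvable).2 h2⟩⟩
  have hq : ¬ p ∣ q := by
    intro h1
    apply hpF
    have h2 : ((q ^ 2 : ℕ) : F) = 0 := by rw [← hF]; exact FiniteField.cast_card_eq_zero F
    obtain ⟨r, hr⟩ := CharP.exists F
    obtain ⟨⟨l, hl⟩, hrp, hcard⟩ := FiniteField.card F r
    have h4 : p ∣ r ^ l := by
      have h5 : Fintype.card F = r ^ l := hcard
      rw [← h5, hF]
      exact dvd_pow h1 two_ne_zero
    have h6 : p = r := (Nat.prime_dvd_prime_iff_eq hp.out hrp).1 (hp.out.dvd_of_dvd_pow h4)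
    rw [h6]
    exact CharP.cast_eq_zero F r
  have hnc' : ∀ P : Sylow p (PSU n F q), ¬ IsCyclic P := by
    intro P hP
    obtain ⟨Q⟩ : Nonempty (Sylow p X) := inferInstance
    have h1 : IsPGroup p ((Q : Subgroup X).map e.toMonoidHom) := Q.isPGroup'.map _
    obtain ⟨P', hP'⟩ := h1.exists_le_sylow
    have h2 : IsCyclic P' := isCyclic_of_surjective (P.equiv P').toMonoidHom (MulEquiv.surjective _)
    have h3 : IsCyclic ((Q : Subgroup X).map e.toMonoidHom) :=
      isCyclic_of_injective (Subgroup.inclusion hP') (Subgroup.inclusion_injective _)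
    refine hnc Q (isCyclic_of_injective (e.toMonoidHom.subgroupMap (Q : Subgroup X)) ?_)
    intro x y hxy
    exact Subtype.ext (e.injective (congrArg Subtype.val hxy))
  refine H776.CY.RowA.congr e (rowA_psu_of hF hn h32 hq ?_ hnc' (fun h1 h2 h3 h4 h5 h6 => exc hF hn h32 hq h1 h2 h3 h4 h5 h6)
    (fun h4 h1 => hone hF h4 hq hnc' h1))
  rw [← Nat.card_congr e.toEquiv]
  exact hd

end Cfsg.Agent.H646.CY
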