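import Cfsg.Agent.H646.CY.UAct
import Cfsg.Agent.H646.CY.RowSym
import Cfsg.Agent.H116.CY.Wit

/-!
# S4829: the row `PSU_n(q)`, `p` divides the number of totally isotropic `k`-spaces (helper646)
-/

set_option autoImplicit false

open Module

namespace Cfsg.Agent.H646.CY

open Cfsg Matrix
open Cfsg.Agent.H2.Pol Cfsg.Agent.H646.BR Cfsg.Agent.H646.BR.U Cfsg.Agent.H145.BR Cfsg.Agent.H674.BR Cfsg.Agent.H623.BR
open Cfsg.Agent.H770.CY
open Cfsg.Agent.LieClassical.HermBasic Cfsg.Agent.LieClassical.HermSiegel Cfsg.Agent.LieClassical.SUBasic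
open Cfsg.Agent.ClassicalGeometry.PSUAutBasic Cfsg.Agent.ClassicalGeometry.PSUAutCount

universe u

variable {F : Type u} [Field F] [Fintype F] {n q : ℕ}

/-- the type is symmetric -/
theorem typ_symm (hF : Fintype.card F = q ^ 2) {k : ℕ} (U W : uX hF n k) :
    typ (hpol hF n) U.1 W.1 = typ (hpol hF n) W.1 U.1 := by
  have h1 := H158.BR.finrank_perp_le hF U.1 W.1
  have h2 := H158.BR.finrank_perp_le hF W.1 U.1
  rw [U.2.2, W.2.2] at h1 h2
  unfold typ
  rw [inf_comm U.1 W.1]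
  congr 1
  omega

/-- the orbitals of `PSU` are symmetric -/
theorem psu_sym (hF : Fintype.card F = q ^ 2) (hn : 3 ≤ n) (k : ℕ) (U W : uX hF n k) :
    letI := psuAct hF hn k
    ∃ g : PSU n F q, g • U = W ∧ g • W = U :=
  H158.BR.psu_pairs hF hn U W W U (typ_symm hF U W)

/-- the constituents are integer valued -/
theorem psu_int (hF : Fintype.card F = q ^ 2) (hn : 3 ≤ n) (k : ℕ) (χ : IrrCharacter (PSU n F q)) [Fintype (PSU n F q)]
    (h : classInner (letI := psuAct hF hn k; permC (PSU n F q) (uX hF n k)) (χ : PSU n F q → ℂ) ≠ 0) (g : PSU n F q) :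
    ∃ m : ℤ, (χ : PSU n F q → ℂ) g = m := by
  let _ := fun j => psuAct hF hn j
  obtain ⟨cc, hcc⟩ := exists_reg hF n
  exact H623.BR.polar_permC hcc (H158.BR.act_psu hF hn) (k := k)
    (fun j _ _ U U2 W W2 ht => H158.BR.psu_pairs hF hn U U2 W W2 ht) χ.2 (Or.inl h) g

variable {p : ℕ} [hp : Fact p.Prime]

/-- **(W0)** -/
theorem psu_dvd (hF : Fintype.card F = q ^ 2) (hn : 3 ≤ n) (h32 : ¬ (n = 3 ∧ q = 2)) {k : ℕ} (hk : 2 * k ≤ n)
    [Fintype (PSU n F q)] (h : p ∣ Nat.card (uX hF n k)) : RowA p (PSU n F q) := by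
  let _ := psuAct hF hn k
  let _ := psuAutAct hF hn h32 k
  have := H666.BR.nonempty_uX (n := n) hF hk
  exact rowA_of_symm (X := uX hF n k) (fun s U => psuAutAct_conj hF hn h32 k s U) (psu_sym hF hn k) h
    (fun χ hχ => H116.CY.cyc_of_int (Cfsg.Agent.Characters.Core.isIrr_isCharacter χ.2) (psu_int hF hn k χ hχ) p)

end Cfsg.Agent.H646.CY
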